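import Groth.Agent.HMTor29.MaxTorus
import Groth.Agent.S3901
import Groth.Agent.AGFQuot23.FlagConj

/-!
# Consequences of conjugacy of maximal tori
-/

set_option autoImplicit false
set_option backward.isDefEq.respectTransparency false
set_option linter.style.haveILetI false

universe u

open CategoryTheory CategoryTheory.Limits MonoidalCategory CartesianMonoidalCategory MonObj GrpObj AlgebraicGeometry

namespace Groth.Agent.MaxTorConj10

open AGFQuot23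

variable {k : Type u} [Field k]
variable {G : Over (Spec (CommRingCat.of k))} [GrpObj G]

theorem conjBy_eq {W : Over (Spec (CommRingCat.of k))} (g : 𝟙_ (Over (Spec (CommRingCat.of k))) ⟶ G) (i : W ⟶ G) :
    AGF.conjBy g i = i ≫ cj g⁻¹ := by
  rw [comp_cj]
  simp [cst, AGF.conjBy, GrpObj.comp_inv]

theorem cj_cancel (g : 𝟙_ (Over (Spec (CommRingCat.of k))) ⟶ G) : cj g⁻¹ ≫ cj g = 𝟙 G := by
  rw [cj_comp, inv_mul_cancel, cj_one]

theorem cj_cancel' (g : 𝟙_ (Over (Spec (CommRingCat.of k))) ⟶ G) : cj g ≫ cj g⁻¹ = 𝟙 G := by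
  rw [cj_comp, mul_inv_cancel, cj_one]

theorem comp_cj_hom {H : Over (Spec (CommRingCat.of k))} [GrpObj H] (q : H ⟶ G) [IsMonHom q]
    (h : 𝟙_ (Over (Spec (CommRingCat.of k))) ⟶ H) : cj h ≫ q = q ≫ cj (h ≫ q) := by
  rw [comp_cj]
  simp only [cj, cst, MonObj.mul_comp, GrpObj.inv_comp, Category.id_comp, Category.assoc]

theorem isCentralizerOf_conj {T T' C C' : Over (Spec (CommRingCat.of k))} [GrpObj T] [GrpObj T'] [GrpObj C] [GrpObj C']
    {iT : T ⟶ G} {iT' : T' ⟶ G} (g : 𝟙_ (Over (Spec (CommRingCat.of k))) ⟶ G) (f : T ≅ T')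
    (hf : f.hom ≫ iT' = iT ≫ cj g) {c : C ⟶ G} {c' : C' ⟶ G}
    (hc : Red.IsCentralizerOf iT c) (hc' : Red.IsCentralizerOf iT' c') :
    ∃ a : C ⟶ C', a ≫ c' = c ≫ cj g := by
  refine (hc'.2.2 C (c ≫ cj g)).2 fun X' x h => ?_
  have h1 := (hc.2.2 C c).1 ⟨𝟙 C, Category.id_comp c⟩ X' x (h ≫ f.inv)
  have h2 : (h ≫ f.inv ≫ iT) ≫ cj g = h ≫ iT' := by
    rw [Category.assoc, Category.assoc, ← hf, Iso.inv_hom_id_assoc]
  have h3 := congrArg (· ≫ cj g) h1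
  simp only [MonObj.mul_comp, Category.assoc] at h3 h2
  rw [h2] at h3
  exact h3

theorem cartan_conj [IsAlgClosed k] [IsAffine G.left] [Smooth G.hom] [ConnectedSpace G.left]
    {T T' C C' : Over (Spec (CommRingCat.of k))} [GrpObj T] [GrpObj T'] [GrpObj C] [GrpObj C']
    {iT : T ⟶ G} {iT' : T' ⟶ G} (hT : AGF.IsMaxTorus iT) (hT' : AGF.IsMaxTorus iT') {c : C ⟶ G} {c' : C' ⟶ G}
    (hc : Red.IsCentralizerOf iT c) (hc' : Red.IsCentralizerOf iT' c') :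
    ∃ (g : 𝟙_ (Over (Spec (CommRingCat.of k))) ⟶ G) (f : C ≅ C'), f.hom ≫ c' = AGF.conjBy g c := by
  obtain ⟨g, f, hf⟩ := Groth.Agent.S3901.result k G T T' iT iT' hT hT'
  rw [conjBy_eq] at hf
  haveI := hc.2.1; haveI := hc'.2.1
  obtain ⟨a, ha⟩ := isCentralizerOf_conj g⁻¹ f hf hc hc'
  have hf' : f.symm.hom ≫ iT = iT' ≫ cj g := by
    rw [Iso.symm_hom, Iso.inv_comp_eq, ← Category.assoc, hf, Category.assoc, cj_cancel, Category.comp_id]
  obtain ⟨b, hb⟩ := isCentralizerOf_conj g f.symm hf' hc' hc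
  refine ⟨g, ⟨a, b, ?_, ?_⟩, by rw [conjBy_eq]; exact ha⟩
  · rw [← cancel_mono c, Category.assoc, hb, ← Category.assoc, ha, Category.assoc, cj_cancel, Category.comp_id,
      Category.id_comp]
  · rw [← cancel_mono c', Category.assoc, ha, ← Category.assoc, hb, Category.assoc, cj_cancel', Category.comp_id,
      Category.id_comp]

theorem isMaxTorus_of_factor {T B : Over (Spec (CommRingCat.of k))} [GrpObj T] [GrpObj B] {iT : T ⟶ G}
    (hT : AGF.IsMaxTorus iT) (iB : B ⟶ G) [IsMonHom iB] [Mono iB] {t : T ⟶ B} (ht : t ≫ iB = iT) :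
    AGF.IsMaxTorus t := by
  obtain ⟨hi, hm, hTt, hmax⟩ := hT
  haveI := hi; haveI := hm
  refine ⟨?_, mono_of_mono_fac ht, hTt, fun T' _ j _ _ f hT' hfj => ?_⟩
  · constructor
    · rw [← cancel_mono iB, Category.assoc, ht, IsMonHom.one_hom iT, IsMonHom.one_hom iB]
    · rw [← cancel_mono iB, Category.assoc, Category.assoc, ht, IsMonHom.mul_hom iT, IsMonHom.mul_hom iB, ← ht,
        tensorHom_comp_tensorHom_assoc]
  · exact hmax T' (j ≫ iB) f hT' (by rw [← Category.assoc, hfj, ht])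

theorem isMaxTorus_comp_cj {T : Over (Spec (CommRingCat.of k))} [GrpObj T] {iT : T ⟶ G}
    (hT : AGF.IsMaxTorus iT) (g : 𝟙_ (Over (Spec (CommRingCat.of k))) ⟶ G) : AGF.IsMaxTorus (iT ≫ cj g) := by
  obtain ⟨hi, hm, hTt, hmax⟩ := hT
  haveI := hi; haveI := hm
  refine ⟨inferInstance, mono_comp _ _, hTt, fun T' _ j _ _ f hT' hfj => ?_⟩
  refine hmax T' (j ≫ cj g⁻¹) f hT' ?_
  rw [← Category.assoc, hfj, Category.assoc, cj_cancel', Category.comp_id]

theorem exists_normalizer_pt [IsAlgClosed k] [IsAffine G.left] [Smooth G.hom] [ConnectedSpace G.left]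
    {T B B' : Over (Spec (CommRingCat.of k))} [GrpObj T] [GrpObj B] [GrpObj B'] {iT : T ⟶ G} {iB : B ⟶ G}
    {iB' : B' ⟶ G} (hT : AGF.IsMaxTorus iT) (hB : Red.IsBorelOver k iB) (hB' : Red.IsBorelOver k iB')
    {t : T ⟶ B} (ht : t ≫ iB = iT) {t' : T ⟶ B'} (ht' : t' ≫ iB' = iT) :
    ∃ (n : 𝟙_ (Over (Spec (CommRingCat.of k))) ⟶ G) (τ : T ≅ T) (σ : B ≅ B'),
      τ.hom ≫ iT = AGF.conjBy n iT ∧ σ.hom ≫ iB' = AGF.conjBy n iB := by
  obtain ⟨g, e, he⟩ := AGFQuot23.borel_conj hB hB'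
  rw [conjBy_eq] at he
  obtain ⟨hi', hcl', hsm', hconn', -⟩ := id hB'
  haveI := hi'; haveI := hcl'; haveI := hsm'; haveI := hconn'
  haveI : Mono iB' := Over.mono_of_mono_left _
  haveI : IsAffine B'.left := isAffine_of_isAffineHom iB'.left
  have ht1 : (t ≫ e.hom) ≫ iB' = iT ≫ cj g⁻¹ := by rw [Category.assoc, he, ← Category.assoc, ht]
  have hm' := isMaxTorus_of_factor hT iB' ht'
  have hm1 := isMaxTorus_of_factor (isMaxTorus_comp_cj hT g⁻¹) iB' ht1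
  obtain ⟨h, f, hf⟩ := Groth.Agent.S3901.result k B' T T (t ≫ e.hom) t' hm1 hm'
  rw [conjBy_eq] at hf
  refine ⟨(h ≫ iB') * g, f, e ≪≫ cjIso h⁻¹, ?_, ?_⟩
  · rw [conjBy_eq, ← ht', ← Category.assoc, hf, Category.assoc, comp_cj_hom, GrpObj.inv_comp, ← Category.assoc, ht1,
      Category.assoc, cj_comp, ← _root_.mul_inv_rev, ht']
  · show (e.hom ≫ cj h⁻¹) ≫ iB' = _
    rw [conjBy_eq, Category.assoc, comp_cj_hom, GrpObj.inv_comp, ← Category.assoc, he, Category.assoc, cj_comp,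
      ← _root_.mul_inv_rev]

theorem borelPair_conj [IsAlgClosed k] [IsAffine G.left] [Smooth G.hom] [ConnectedSpace G.left]
    {T T' B B' : Over (Spec (CommRingCat.of k))} [GrpObj T] [GrpObj T'] [GrpObj B] [GrpObj B'] {iT : T ⟶ G}
    {iT' : T' ⟶ G} {iB : B ⟶ G} {iB' : B' ⟶ G} (hB : Red.IsBorelOver k iB) (hB' : Red.IsBorelOver k iB')
    (hT : AGF.IsMaxTorus iT) (hT' : AGF.IsMaxTorus iT')
    {t : T ⟶ B} (ht : t ≫ iB = iT) {t' : T' ⟶ B'} (ht' : t' ≫ iB' = iT') :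
    ∃ (g : 𝟙_ (Over (Spec (CommRingCat.of k))) ⟶ G) (f : B ≅ B') (f' : T ≅ T'),
      f.hom ≫ iB' = AGF.conjBy g iB ∧ f'.hom ≫ iT' = AGF.conjBy g iT := by
  obtain ⟨g, e, he⟩ := AGFQuot23.borel_conj hB hB'
  rw [conjBy_eq] at he
  obtain ⟨hi', hcl', hsm', hconn', -⟩ := id hB'
  haveI := hi'; haveI := hcl'; haveI := hsm'; haveI := hconn'
  haveI : Mono iB' := Over.mono_of_mono_left _
  haveI : IsAffine B'.left := isAffine_of_isAffineHom iB'.left
  have ht1 : (t ≫ e.hom) ≫ iB' = iT ≫ cj g⁻¹ := by rw [Category.assoc, he, ← Category.assoc, ht]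
  have hm' := isMaxTorus_of_factor hT' iB' ht'
  have hm1 := isMaxTorus_of_factor (isMaxTorus_comp_cj hT g⁻¹) iB' ht1
  obtain ⟨h, f, hf⟩ := Groth.Agent.S3901.result k B' T T' (t ≫ e.hom) t' hm1 hm'
  rw [conjBy_eq] at hf
  refine ⟨(h ≫ iB') * g, e ≪≫ cjIso h⁻¹, f, ?_, ?_⟩
  · show (e.hom ≫ cj h⁻¹) ≫ iB' = _
    rw [conjBy_eq, Category.assoc, comp_cj_hom, GrpObj.inv_comp, ← Category.assoc, he, Category.assoc, cj_comp,
      ← _root_.mul_inv_rev]
  · rw [conjBy_eq, ← ht', ← Category.assoc, hf, Category.assoc, comp_cj_hom, GrpObj.inv_comp, ← Category.assoc, ht1,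
      Category.assoc, cj_comp, ← _root_.mul_inv_rev]

end Groth.Agent.MaxTorConj10
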